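import Cfsg.Agent.Twisted.Groups.D4Inst
import Cfsg.Agent.Chev54.Generators
import Cfsg.Agent.ChevTori.Centralizer
import Cfsg.Agent.Lib.ChevCore.RankOneHom

/-!
Triality with a Frobenius map on `D₄` over an extension field, its action on the torus, and the `SL₂` of
the central node (helper60).
-/

set_option autoImplicit false
set_option maxRecDepth 4000

namespace Cfsg.Agent.D4Triality.Torus

open ChevGroup ChevIsogeny Cfsg.Lie Cfsg.Agent.Twisted Cfsg.Agent.Twisted.TypeD4
open ChevCore (PairRel slU slL pn ph)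
open Matrix

universe u v

variable {L : Type u} [Field L] [Fintype L]

/-- The relations used. -/
noncomputable abbrev KL (L : Type u) [Field L] : Rels chevD4 L := relsOfCommGood ChevCore.commGoodD4 L

theorem lf_one : ∀ r, r < chevD4.nroots → ChevIsogeny.IsoData.lf PP r = 1 := by
  have : ((List.range chevD4.nroots).all fun r => decide (ChevIsogeny.IsoData.lf PP r = 1)) = true := by
    decide +kernel
  simp only [List.all_eq_true, decide_eq_true_eq, List.mem_range] at this
  exact this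

theorem lam_all (q : ℕ) (r : Fin MT.tab.n) : IsoHyp.lam PP q r.val = q := by
  rw [IsoHyp.lam, lf_one _ (MT.lt r), one_mul]

/-- The frame over any finite field on which the `q`-power map is a homomorphism. -/
theorem frameExt {q : ℕ} (hadd : ∀ a b : L, (a + b) ^ q = a ^ q + b ^ q)
    (hint : ∀ z : ℤ, (z : L) ^ q = z) : Frame (T := MT) (KL L) PP q fd :=
  ⟨⟨commFormula ChevCore.commGoodD4 L, ChevIsogeny.D4.base, ChevIsogeny.D4.pairing,
    ChevIsogeny.D4.simple, ChevIsogeny.D4.collect, by simp [ChevIsogeny.D4.iso],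
    fun r hr a b => by rw [lf_one r hr, one_mul]; exact hadd a b,
    fun r hr z => by rw [lf_one r hr, one_mul]; exact hint z,
    ⟨_, ChevIsogeny.D4.sign, eta_link ChevCore.commGoodD4 L ChevCore.chkLinkD4 etaTab⟩⟩, ok⟩

section map

variable {K : Type v} [Field K] [Fintype K] (ι : K →+* L) {q : ℕ}

theorem map_x (r : Fin MT.tab.n) (t : K) :
    ChevFixed.mapGroup ι ((MT.rel (KL K)).x r t) = (MT.rel (KL L)).x r (ι t) :=
  Model.mat_inj (ChevFixed.x_map ι r.val t)

theorem map_hr (r : Fin MT.tab.n) (t : K) :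
    ChevFixed.mapGroup ι ((MT.rel (KL K)).hr r t) = (MT.rel (KL L)).hr r (ι t) := by
  simp only [RootRel.hr, hOf, nOf, map_mul, map_x, map_neg, map_inv₀, map_one]

theorem map_tor (c : Fin MT.tab.l → Kˣ) :
    ChevFixed.mapGroup ι (tor MT (KL K) c) = tor MT (KL L) fun j => Units.map ι.toMonoidHom (c j) := by
  rw [tor, tor, map_list_prod, List.map_map]
  exact congrArg List.prod (List.map_congr_left fun i _ => map_hr ι _ _)

theorem σ_map (ZK : Frame (T := MT) (KL K) PP q fd) (ZL : Frame (T := MT) (KL L) PP q fd)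
    (g : ↥(chevD4.group K)) :
    ZL.σ (ChevFixed.mapGroup ι g) = ChevFixed.mapGroup ι (ZK.σ g) := by
  refine DFunLike.congr_fun (Chev54.hom_ext_simple MT (KL K) ChevGroup.TypeD4.wit_ok
    (φ := ZL.σ.comp (ChevFixed.mapGroup ι)) (ψ := (ChevFixed.mapGroup ι).comp ZK.σ) (fun i t => ?_)
      fun i t => ?_) g <;>
    simp only [MonoidHom.comp_apply, map_x, ZL.σ_x, ZK.σ_x, map_mul, map_intCast, map_pow]

end map

variable {q : ℕ} (Z : Frame (T := MT) (KL L) PP q fd)

theorem ef_ne (Z : Frame (T := MT) (KL L) PP q fd) (r : Fin MT.tab.n) : (PP.ef r.val : L) ≠ 0 :=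
  Z.iso.datum.eps_ne r

include Z in
/-- The action of triality on the root values of a torus element. -/
theorem chi_σ {c d : Fin MT.tab.l → Lˣ} (h : Z.σ (tor MT (KL L) c) = tor MT (KL L) d)
    (s : Fin MT.tab.n) : chi MT d (fd.O.rho s) = chi MT c s ^ q := by
  have e := congrArg Z.σ (Z.tor_conj c s 1)
  rw [map_mul, map_mul, map_inv, h, Z.σ_x, Z.σ_x, Z.tor_conj, one_pow, mul_one, mul_one, lam_all,
    mul_comm (chi MT d (fd.O.rho s) : L)] at e
  exact Units.ext ((Units.val_pow_eq_pow_val _ _).trans (mul_left_cancel₀ (ef_ne Z s)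
    (Z.iso.x_injective _ e)).symm).symm

include Z in
/-- The action of the reflection of the central node on the root values of a torus element. -/
theorem chi_n {c d : Fin MT.tab.l → Lˣ}
    (h : (MT.rel (KL L)).n 1 * tor MT (KL L) c * ((MT.rel (KL L)).n 1)⁻¹ = tor MT (KL L) d) (s : Fin MT.tab.n) :
    chi MT d ((MT.S).refl 1 s) = chi MT c s := by
  obtain ⟨e, he, hx⟩ := (MT.rel (KL L)).nw_conj [1] s
  have hn : (MT.rel (KL L)).nw [1] = (MT.rel (KL L)).n 1 := by
    rw [show ([1] : List (Fin MT.tab.l)) = 1 :: [] from rfl, (MT.rel (KL L)).nw_cons]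
    simp [RootRel.nw]
  rw [hn] at hx
  have hne : e ≠ 0 := fun h0 => by simp [h0] at he
  have h1 := Z.tor_conj d ((MT.S).actw [1] s) (e * 1)
  have h2 : (MT.rel (KL L)).n 1 * tor MT (KL L) c * ((MT.rel (KL L)).n 1)⁻¹ * (MT.rel (KL L)).x ((MT.S).actw [1] s) (e * 1) *
      ((MT.rel (KL L)).n 1 * tor MT (KL L) c * ((MT.rel (KL L)).n 1)⁻¹)⁻¹ =
      (MT.rel (KL L)).x ((MT.S).actw [1] s) (e * (chi MT c s * 1)) := by
    rw [← hx 1, ← hx (chi MT c s * 1), ← Z.tor_conj]
    group
  rw [← h, h2] at h1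
  have h3 := Z.iso.x_injective _ h1
  rw [mul_one, mul_one, mul_comm (chi MT d _ : L)] at h3
  exact Units.ext (mul_left_cancel₀ hne h3).symm

/-- The homomorphism from `SL₂` onto the group of the central node. -/
theorem exists_sl (L : Type u) [Field L] :
    ∃ φ : Matrix.SpecialLinearGroup (Fin 2) L →* ↥(chevD4.group L),
      (∀ t, φ (slU t) = (MT.rel (KL L)).x 14 t) ∧ ∀ t, φ (slL t) = (MT.rel (KL L)).x 9 t := by
  have hG := ChevCore.commGoodD4.toGood
  have P := hG.pairRel_root (F := L) (r := 14) (by decide)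
  rw [show chevD4.neg 14 = 9 from rfl] at P
  obtain ⟨φ, h1, h2, h3⟩ := ChevCore.exists_sl_hom P
  have hval : ∀ (r : Fin MT.tab.n) (t : L),
      ((MT.rel (KL L)).x r t : GL chevD4.Idx L) = ChevCore.xg chevD4 L r.val t := by
    intro r t
    refine Units.ext ?_
    rw [hG.val_xg]
    rfl
  have hmem : ∀ g, φ g ∈ chevD4.group L := by
    intro g
    have hle : φ.range ≤ chevD4.group L := by
      rw [h3, Subgroup.closure_le]
      rintro _ (⟨t, rfl⟩ | ⟨t, rfl⟩)
      · have h := ((MT.rel (KL L)).x 14 t).2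
        rw [hval 14 t] at h
        exact h
      · have h := ((MT.rel (KL L)).x 9 t).2
        rw [hval 9 t] at h
        exact h
    exact hle ⟨g, rfl⟩
  exact ⟨φ.codRestrict _ hmem, fun t => Subtype.ext ((h1 t).trans (hval 14 t).symm),
    fun t => Subtype.ext ((h2 t).trans (hval 9 t).symm)⟩

variable {φ : Matrix.SpecialLinearGroup (Fin 2) L →* ↥(chevD4.group L)}
  (hU : ∀ t, φ (slU t) = (MT.rel (KL L)).x 14 t) (hL : ∀ t, φ (slL t) = (MT.rel (KL L)).x 9 t)

include hU hL in
theorem sl_nr (c : L) : φ (pn slU slL c) = (MT.rel (KL L)).nr 14 c := by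
  have hneg : (MT.S).neg (14 : Fin MT.tab.n) = 9 := by decide
  simp only [pn, map_mul, hU, hL, RootRel.nr, nOf, hneg]

include hU hL in
theorem sl_hr (c : L) : φ (ph slU slL c) = (MT.rel (KL L)).hr 14 c := by
  have h : (MT.rel (KL L)).hr 14 c = (MT.rel (KL L)).nr 14 c * (MT.rel (KL L)).nr 14 (-1) := rfl
  rw [ph, map_mul, sl_nr hU hL, sl_nr hU hL, h]

include Z hU hL in
theorem σ_sl (g : Matrix.SpecialLinearGroup (Fin 2) L) (g' : Matrix.SpecialLinearGroup (Fin 2) L)
    (hg : ∀ i j, (g' : Matrix (Fin 2) (Fin 2) L) i j = (g : Matrix (Fin 2) (Fin 2) L) i j ^ q) :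
    Z.σ (φ g) = φ g' := by
  have hadd : ∀ a b : L, (a + b) ^ q = a ^ q + b ^ q := fun a b => by
    simpa [lf_one 14 (by decide)] using Z.iso.add_pow 14 (by decide) a b
  have hq : q ≠ 0 := fun h => by simpa [h] using hadd 1 1
  let f : L →+* L :=
    { toFun := fun a => a ^ q
      map_one' := one_pow q
      map_mul' := fun a b => mul_pow a b q
      map_zero' := zero_pow hq
      map_add' := hadd }
  have e : Z.σ.comp φ = φ.comp (Matrix.SpecialLinearGroup.map f) := by
    refine MonoidHom.ext fun x => MonoidHom.eqOn_closure ?_ (ChevCore.sl_generated x)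
    have h14 : fd.O.rho (14 : Fin MT.tab.n) = 14 := by decide
    have h9 : fd.O.rho (9 : Fin MT.tab.n) = 9 := by decide
    rintro _ (⟨t, rfl⟩ | ⟨t, rfl⟩)
    · have : Matrix.SpecialLinearGroup.map f (slU t) = slU (t ^ q) := Subtype.ext (by
        ext i j; fin_cases i <;> fin_cases j <;> simp [ChevCore.coe_slU, f, zero_pow hq])
      simp only [MonoidHom.comp_apply, this, hU]
      rw [Z.σ_x, lam_all, h14, (lam_eq (q := q) 14 (by simp)).2, one_mul]
    · have : Matrix.SpecialLinearGroup.map f (slL t) = slL (t ^ q) := Subtype.ext (by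
        ext i j; fin_cases i <;> fin_cases j <;> simp [ChevCore.coe_slL, f, zero_pow hq])
      simp only [MonoidHom.comp_apply, this, hL]
      rw [Z.σ_x, lam_all, h9, (lam_eq (q := q) 9 (by simp)).2, one_mul]
  refine (DFunLike.congr_fun e g).trans (congrArg φ (Subtype.ext (Matrix.ext fun i j => ?_)))
  exact (hg i j).symm

include Z hU hL in
/-- Conjugation by a torus element scales the `SL₂` of the central node. -/
theorem tor_sl (c : Fin MT.tab.l → Lˣ) (g g' : Matrix.SpecialLinearGroup (Fin 2) L)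
    (hg : (g' : Matrix (Fin 2) (Fin 2) L) =
      !![(g : Matrix (Fin 2) (Fin 2) L) 0 0, (chi MT c 14 : L) * (g : Matrix (Fin 2) (Fin 2) L) 0 1;
        (chi MT c 14 : L)⁻¹ * (g : Matrix (Fin 2) (Fin 2) L) 1 0, (g : Matrix (Fin 2) (Fin 2) L) 1 1]) :
    tor MT (KL L) c * φ g * (tor MT (KL L) c)⁻¹ = φ g' := by
  obtain ⟨δ, hδ⟩ : ∃ δ : Lˣ, δ = chi MT c 14 := ⟨_, rfl⟩
  have h9 : chi MT c 9 = δ⁻¹ := by
    rw [hδ, chi, chi, ← Finset.prod_inv_distrib]
    refine Finset.prod_congr rfl fun i _ => ?_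
    have : ∀ i : Fin 4, chevD4.pairing ((MT.S).simple i).val (9 : Fin MT.tab.n).val =
        -chevD4.pairing ((MT.S).simple i).val (14 : Fin MT.tab.n).val := by decide +kernel
    exact (congrArg (c i ^ ·) (this i)).trans (zpow_neg _ _)
  let D : GL (Fin 2) L :=
    ⟨!![(δ : L), 0; 0, 1], !![(δ : L)⁻¹, 0; 0, 1],
      by ext i j; fin_cases i <;> fin_cases j <;> simp [Matrix.mul_apply, Fin.sum_univ_two],
      by ext i j; fin_cases i <;> fin_cases j <;> simp [Matrix.mul_apply, Fin.sum_univ_two]⟩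
  let cD : Matrix.SpecialLinearGroup (Fin 2) L →* Matrix.SpecialLinearGroup (Fin 2) L :=
    MonoidHom.mk' (fun x => ⟨(D : Matrix (Fin 2) (Fin 2) L) * x * ((D⁻¹ : GL (Fin 2) L) : Matrix (Fin 2) (Fin 2) L), by
        rw [Matrix.det_mul, Matrix.det_mul, mul_right_comm, ← Matrix.det_mul, Units.mul_inv,
          Matrix.det_one, one_mul, x.2]⟩)
      (fun x y => Subtype.ext (by
        show (D : Matrix (Fin 2) (Fin 2) L) * ((x : Matrix (Fin 2) (Fin 2) L) * y) * _ =
          ((D : Matrix (Fin 2) (Fin 2) L) * x * _) * ((D : Matrix (Fin 2) (Fin 2) L) * y * _)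
        simp only [Matrix.mul_assoc]
        rw [← Matrix.mul_assoc ((D⁻¹ : GL (Fin 2) L) : Matrix (Fin 2) (Fin 2) L) (D : Matrix (Fin 2) (Fin 2) L),
          Units.inv_mul, Matrix.one_mul]))
  have hD : ∀ x : Matrix.SpecialLinearGroup (Fin 2) L, (cD x : Matrix (Fin 2) (Fin 2) L) =
      !![(x : Matrix (Fin 2) (Fin 2) L) 0 0, (δ : L) * (x : Matrix (Fin 2) (Fin 2) L) 0 1;
        (δ : L)⁻¹ * (x : Matrix (Fin 2) (Fin 2) L) 1 0, (x : Matrix (Fin 2) (Fin 2) L) 1 1] := by
    intro x
    show !![(δ : L), 0; 0, 1] * (x : Matrix (Fin 2) (Fin 2) L) * !![(δ : L)⁻¹, 0; 0, 1] = _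
    ext i j
    fin_cases i <;> fin_cases j <;> simp [Matrix.mul_apply, Matrix.vecMul, dotProduct, Fin.sum_univ_two] <;> (try field_simp)
  have e : ((MulAut.conj (tor MT (KL L) c)).toMonoidHom).comp φ = φ.comp cD := by
    refine MonoidHom.ext fun x => MonoidHom.eqOn_closure ?_ (ChevCore.sl_generated x)
    rintro _ (⟨t, rfl⟩ | ⟨t, rfl⟩)
    · have : cD (slU t) = slU ((δ : L) * t) := Subtype.ext (by
        rw [hD]; ext i j; fin_cases i <;> fin_cases j <;> simp [ChevCore.coe_slU])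
      simp only [MonoidHom.comp_apply, this, hU, MulEquiv.coe_toMonoidHom, MulAut.conj_apply]
      rw [Z.tor_conj, hδ]
    · have : cD (slL t) = slL ((δ : L)⁻¹ * t) := Subtype.ext (by
        rw [hD]; ext i j; fin_cases i <;> fin_cases j <;> simp [ChevCore.coe_slL])
      simp only [MonoidHom.comp_apply, this, hL, MulEquiv.coe_toMonoidHom, MulAut.conj_apply]
      rw [Z.tor_conj, h9, Units.val_inv_eq_inv_val]
  refine (DFunLike.congr_fun e g).trans (congrArg φ (Subtype.ext ?_))
  rw [hD, hg, hδ]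

end Cfsg.Agent.D4Triality.Torus
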