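import Cfsg.Agent.Twisted.Groups.D4Gens
import Mathlib.Tactic

/-!
Exponents of the root values on the cyclic torus of order `(q ^ 3 - 1)(q + 1)` of `³D₄(q)` (helper60).
-/

set_option autoImplicit false

namespace Cfsg.Agent.D4Triality.Torus

open Cfsg.Agent.Twisted.TypeD4 ChevGroup

/-- The order of the torus. -/
def ordT (q : ℤ) : ℤ := (q ^ 3 - 1) * (q + 1)

/-- Coefficients in `q` of the exponents of the simple roots `18, 14, 13, 12`. -/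
def eS : Fin 4 → Fin 4 → ℤ := ![![1, 0, 0, 0], ![-1, 0, 0, 1], ![1, 1, 0, -1], ![0, 0, 1, 0]]

/-- Coefficients in `q` of the exponent of a root. -/
def eR (s : Fin MT.tab.n) (k : Fin 4) : ℤ := ∑ j : Fin 4, fd.O.vec s j * eS j k

/-- Evaluation of a cubic. -/
def evq (q : ℤ) (a : Fin 4 → ℤ) : ℤ := a 0 + a 1 * q + a 2 * q ^ 2 + a 3 * q ^ 3

theorem eval_ne_zero {q : ℤ} {a : Fin 4 → ℤ} (ha : ∀ k, |a k| < q) (hne : ∃ k, a k ≠ 0) :
    evq q a ≠ 0 := by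
  intro h
  have hq : 0 < q := lt_of_le_of_lt (abs_nonneg _) (ha 0)
  have step : ∀ x y : ℤ, |x| < q → x + y * q = 0 → x = 0 ∧ y = 0 := by
    intro x y hx e
    have : x = 0 := Int.eq_zero_of_abs_lt_dvd ⟨-y, by linear_combination e⟩ hx
    subst this
    exact ⟨rfl, (mul_eq_zero.1 (by linear_combination e : y * q = 0)).resolve_right hq.ne'⟩
  obtain ⟨e0, r0⟩ := step (a 0) (a 1 + a 2 * q + a 3 * q ^ 2) (ha 0) (by rw [evq] at h; linear_combination h)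
  obtain ⟨e1, r1⟩ := step (a 1) (a 2 + a 3 * q) (ha 1) (by linear_combination r0)
  obtain ⟨e2, e3⟩ := step (a 2) (a 3) (ha 2) r1
  obtain ⟨k, hk⟩ := hne
  fin_cases k <;> simp_all

theorem eR_bound : ∀ s : Fin MT.tab.n, ∀ k : Fin 4, |eR s k| ≤ 1 := by decide +kernel

theorem eR_nonzero : ∀ s : Fin MT.tab.n, ∃ k : Fin 4, eR s k ≠ 0 := by decide +kernel

theorem eR_sub_bound : ∀ s : Fin MT.tab.n, ∀ r ∈ ([18, 13, 12] : List (Fin MT.tab.n)), r ≠ s →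
    (∀ k : Fin 4, |eR s k - eR r k| ≤ 2) ∧ (∃ k : Fin 4, eR s k - eR r k ≠ 0) ∧
    evq 2 (fun k => eR s k - eR r k) ≠ 0 ∧ |evq 2 (fun k => eR s k - eR r k)| < ordT 2 := by
  decide +kernel

theorem eR_two : ∀ s : Fin MT.tab.n, evq 2 (eR s) ≠ 0 ∧ |evq 2 (eR s)| < ordT 2 := by decide +kernel

theorem abs_evq_lt {q : ℤ} (hq : 3 ≤ q) {a : Fin 4 → ℤ} (ha : ∀ k, |a k| ≤ 2) : |evq q a| < ordT q := by
  have h0 := abs_le.1 (ha 0); have h1 := abs_le.1 (ha 1); have h2 := abs_le.1 (ha 2); have h3 := abs_le.1 (ha 3)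
  have hq2 : (0 : ℤ) ≤ q ^ 2 := by positivity
  have hq3 : (0 : ℤ) ≤ q ^ 3 := by positivity
  rw [abs_lt, evq, ordT]
  constructor <;>
    nlinarith [mul_le_mul_of_nonneg_right h1.1 (show (0 : ℤ) ≤ q by omega),
      mul_le_mul_of_nonneg_right h1.2 (show (0 : ℤ) ≤ q by omega),
      mul_le_mul_of_nonneg_right h2.1 hq2, mul_le_mul_of_nonneg_right h2.2 hq2,
      mul_le_mul_of_nonneg_right h3.1 hq3, mul_le_mul_of_nonneg_right h3.2 hq3,
      mul_le_mul_of_nonneg_right hq hq3, mul_le_mul_of_nonneg_right hq hq2]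

/-- The torus is regular. -/
theorem not_dvd_root {q : ℤ} (hq : 2 ≤ q) (s : Fin MT.tab.n) : ¬ ordT q ∣ evq q (eR s) := by
  rcases eq_or_lt_of_le hq with rfl | hq3
  · exact fun h => (eR_two s).1 (Int.eq_zero_of_abs_lt_dvd h (eR_two s).2)
  · exact fun h => eval_ne_zero (fun k => lt_of_le_of_lt (eR_bound s k) (by omega)) (eR_nonzero s)
      (Int.eq_zero_of_abs_lt_dvd h (abs_evq_lt hq3 fun k => (eR_bound s k).trans (by norm_num)))

/-- The values at the outer simple roots are taken once. -/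
theorem eq_of_dvd {q : ℤ} (hq : 2 ≤ q) {r : Fin MT.tab.n} (hr : r ∈ ([18, 13, 12] : List (Fin MT.tab.n)))
    (s : Fin MT.tab.n) (h : ordT q ∣ evq q (eR s) - evq q (eR r)) : s = r := by
  by_contra hne
  obtain ⟨hb, hz, h2, h2'⟩ := eR_sub_bound s r hr (Ne.symm hne)
  have e : evq q (eR s) - evq q (eR r) = evq q (fun k => eR s k - eR r k) := by simp only [evq]; ring
  rw [e] at h
  rcases eq_or_lt_of_le hq with rfl | hq3
  · exact h2 (Int.eq_zero_of_abs_lt_dvd h h2')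
  · exact eval_ne_zero (fun k => lt_of_le_of_lt (hb k) (by omega)) hz
      (Int.eq_zero_of_abs_lt_dvd h (abs_evq_lt hq3 hb))

theorem central_cases : ∀ s : Fin MT.tab.n, (∀ r ∈ ([18, 13, 12] : List (Fin MT.tab.n)),
    Cfsg.Lie.chevD4.pairing r.val s.val = -1) → s = 14 ∨ s = 1 := by decide +kernel

theorem central_ne {q : ℤ} (hq : 2 ≤ q) : ¬ ordT q ∣ evq q (eR 14) - evq q (eR 1) := by
  have e : evq q (eR 14) - evq q (eR 1) = q ^ 3 + q ^ 2 + q := by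
    have : eR 14 = ![-1, 0, 0, 1] ∧ eR 1 = ![-1, -1, -1, 0] := by
      constructor <;> funext k <;> revert k <;> decide +kernel
    simp [this.1, this.2, evq]; ring
  rw [e]
  intro h
  have h1 : 2 * q ≤ q ^ 2 := by nlinarith
  have h2 : 2 * q ^ 3 ≤ q ^ 4 := by nlinarith [pow_pos (show 0 < q by omega) 3]
  have := Int.le_of_dvd (by positivity) h
  simp only [ordT] at this
  nlinarith

/-- An exponent for the parameter of the outer nodes. -/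
theorem exists_h {q : ℕ} (hq : 2 ≤ q) : ∃ h : ℤ,
    ordT q ∣ 2 * h - ((q : ℤ) + 1) * ((q : ℤ) ^ 2 + 1) ∧ ordT q ∣ h * ((q : ℤ) ^ 3 - 1) ∧
    ordT q ∣ h * ((q : ℤ) ^ 2 + q + 1) - ((q : ℤ) + 1) * (q * ((q : ℤ) ^ 2 + q + 1)) := by
  rcases Nat.even_or_odd q with ⟨k, hk⟩ | ⟨k, hk⟩
  · obtain ⟨n, hn⟩ : ∃ n : ℤ, ordT q = 2 * n - 1 :=
      ⟨(q : ℤ) ^ 3 * k + 4 * (k : ℤ) ^ 3 - k, by
        have : (q : ℤ) = 2 * k := by rw [hk]; push_cast; ring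
        rw [ordT, this]; ring⟩
    have hodd : IsCoprime (ordT q) 2 := ⟨-1, n, by rw [hn]; ring⟩
    refine ⟨n * (((q : ℤ) + 1) * ((q : ℤ) ^ 2 + 1)), ⟨((q : ℤ) + 1) * ((q : ℤ) ^ 2 + 1), ?_⟩, ?_, ?_⟩
    · rw [hn]; ring
    · exact ⟨n * ((q : ℤ) ^ 2 + 1), by rw [ordT]; ring⟩
    · refine hodd.dvd_of_dvd_mul_left ⟨((q : ℤ) + 1) * ((q : ℤ) ^ 2 + 1) * ((q : ℤ) ^ 2 + q + 1) + ((q : ℤ) - 1), ?_⟩
      have hn' : 2 * n = ordT q + 1 := by rw [hn]; ring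
      calc 2 * (n * (((q : ℤ) + 1) * ((q : ℤ) ^ 2 + 1)) * ((q : ℤ) ^ 2 + q + 1) -
            ((q : ℤ) + 1) * (q * ((q : ℤ) ^ 2 + q + 1)))
          = (2 * n) * (((q : ℤ) + 1) * ((q : ℤ) ^ 2 + 1) * ((q : ℤ) ^ 2 + q + 1)) -
            2 * (((q : ℤ) + 1) * (q * ((q : ℤ) ^ 2 + q + 1))) := by ring
        _ = _ := by rw [hn', ordT]; ring
  · have hkz : (q : ℤ) = 2 * k + 1 := by exact_mod_cast hk
    refine ⟨((k : ℤ) + 1) * ((q : ℤ) ^ 2 + 1), ⟨0, ?_⟩, ⟨2 * (k : ℤ) ^ 2 + 2 * k + 1, ?_⟩, ⟨(k : ℤ), ?_⟩⟩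
    · rw [hkz]; ring
    · rw [ordT, hkz]; ring
    · rw [ordT, hkz]; ring

end Cfsg.Agent.D4Triality.Torus
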