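import Cfsg.Agent.D4Triality.TorusFrame
import Cfsg.Agent.D4Triality.TorusArith
import Mathlib.GroupTheory.OrderOfElement

/-!
The regular element of order `(q ^ 3 - 1)(q + 1)` and its centraliser in the fixed points of triality
(helper60).
-/

set_option autoImplicit false
set_option maxRecDepth 4000

namespace Cfsg.Agent.D4Triality.Torus

open ChevGroup ChevIsogeny Cfsg.Lie Cfsg.Agent.Twisted Cfsg.Agent.Twisted.TypeD4
open ChevCore (slU slL pn ph)

universe u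

variable {L : Type u} [Field L] [Fintype L] {q : ℕ}

theorem simple_list : (MT.S).simple 0 = 18 ∧ (MT.S).simple 1 = 14 ∧ (MT.S).simple 2 = 13 ∧
    (MT.S).simple 3 = 12 := by decide +kernel

theorem pairing_actw (w : List (Fin MT.tab.l)) (r s : Fin MT.tab.n) :
    chevD4.pairing ((MT.S).actw w r).val ((MT.S).actw w s).val = chevD4.pairing r.val s.val := by
  induction w with
  | nil => rfl
  | cons i w ih =>
    rw [(MT.S).actw_cons, (MT.S).actw_cons, MT.refl_eq, MT.refl_eq,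
      ChevCore.commGoodD4.toGood.pairing_refl (MT.lt_l i) (MT.lt _) (MT.lt _), ih]

theorem pairing_ext : ∀ s s' : Fin MT.tab.n, (∀ r ∈ ([18, 14, 13, 12] : List (Fin MT.tab.n)),
    chevD4.pairing r.val s.val = chevD4.pairing r.val s'.val) → s = s' := by decide +kernel

/-- The parameters of a torus element with exponents `v`. -/
def cpow (ω : Lˣ) (v : Fin 4 → ℤ) (j : Fin MT.tab.l) : Lˣ := ω ^ v j

theorem zpow_congr {ω : Lˣ} {N a b : ℤ} (hω : (orderOf ω : ℤ) = N) (h : N ∣ a - b) : ω ^ a = ω ^ b :=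
  orderOf_dvd_sub_iff_zpow_eq_zpow.1 (hω.symm ▸ h)

theorem dvd_of_zpow {ω : Lˣ} {N a b : ℤ} (hω : (orderOf ω : ℤ) = N) (h : ω ^ a = ω ^ b) : N ∣ a - b :=
  hω ▸ orderOf_dvd_sub_iff_zpow_eq_zpow.2 h

variable (Z : Frame (T := MT) (KL L) PP q fd)

include Z in
theorem chi_all (c : Fin MT.tab.l → Lˣ) (s : Fin MT.tab.n) : chi MT c s =
    chi MT c 18 ^ fd.O.vec s 0 * chi MT c 14 ^ fd.O.vec s 1 * chi MT c 13 ^ fd.O.vec s 2 *
      chi MT c 12 ^ fd.O.vec s 3 := by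
  rw [Z.chi_eq torOk c s]
  refine (Fin.prod_univ_four (fun j : Fin 4 => chi MT c ((MT.S).simple j) ^ fd.O.vec s j)).trans ?_
  obtain ⟨h0, h1, h2, h3⟩ := simple_list
  exact congrArg₂ (· * ·) (congrArg₂ (· * ·) (congrArg₂ (· * ·)
    (congrArg (fun r => chi MT c r ^ fd.O.vec s 0) h0) (congrArg (fun r => chi MT c r ^ fd.O.vec s 1) h1))
    (congrArg (fun r => chi MT c r ^ fd.O.vec s 2) h2)) (congrArg (fun r => chi MT c r ^ fd.O.vec s 3) h3)

include Z in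
/-- A regular element with the exponents `eR` has centraliser in the torus. -/
theorem mem_torus (hq : 2 ≤ q) {ω : Lˣ} (hω : (orderOf ω : ℤ) = ordT q) {c : Fin MT.tab.l → Lˣ}
    (hc : ∀ s, chi MT c s = ω ^ evq q (eR s)) {g : ↥(chevD4.group L)}
    (e : g * tor MT (KL L) c = tor MT (KL L) c * g) : ∃ d, tor MT (KL L) d = g := by
  have hq' : (2 : ℤ) ≤ q := by exact_mod_cast hq
  have hH := Z.tor_mem_H c
  have hchi : ∀ s, ChevTori.chi MT (tor MT (KL L) c) s = (chi MT c s : L) := by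
    intro s
    have h1 := ChevTori.conj_x MT ChevCore.uGoodD4 hH s (1 : L)
    rw [Z.tor_conj, mul_one, mul_one] at h1
    exact (Z.iso.x_injective s h1).symm
  refine Z.exists_tor torOk (ChevTori.mem_H_of_commute MT ChevCore.uGoodD4
    ChevGroup.TypeD4.longest_ok ChevGroup.TypeD4.pos_span ChevGroup.TypeD4.wit_ok hH (fun s h => ?_)
      (fun w hw => ?_) e)
  · rw [hchi, Units.val_eq_one, hc, ← zpow_zero ω] at h
    exact not_dvd_root hq' s (by simpa using dvd_of_zpow hω h)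
  · have hinv : ∀ s, ordT q ∣ evq q (eR ((MT.S).actw w s)) - evq q (eR s) := by
      intro s
      refine dvd_of_zpow hω ?_
      rw [← hc, ← hc]
      refine Units.ext ?_
      rw [← hchi, ← hchi]
      have h1 := ChevTori.chi_conj MT ChevCore.uGoodD4 w hH s
      rwa [hw] at h1
    have hout : ∀ r ∈ ([18, 13, 12] : List (Fin MT.tab.n)), (MT.S).actw w r = r :=
      fun r hr => eq_of_dvd hq' hr _ (hinv r)
    have h14 : (MT.S).actw w 14 = 14 := by
      have h13 : ∀ r ∈ ([18, 13, 12] : List (Fin MT.tab.n)), chevD4.pairing r.val (14 : Fin MT.tab.n).val = -1 := by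
        decide +kernel
      have hp : ∀ r ∈ ([18, 13, 12] : List (Fin MT.tab.n)),
          chevD4.pairing r.val ((MT.S).actw w 14).val = -1 := fun r hr => by
        have h1 := pairing_actw w r 14
        rw [hout r hr] at h1
        exact h1.trans (h13 r hr)
      rcases central_cases _ hp with h | h
      · exact h
      · exfalso
        have h1 := hinv 14
        rw [h] at h1
        exact central_ne hq' (dvd_sub_comm.1 h1)
    intro s
    refine pairing_ext _ _ fun r hr => ?_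
    have hfix : (MT.S).actw w r = r := by
      simp only [List.mem_cons, List.not_mem_nil, or_false] at hr
      rcases hr with rfl | rfl | rfl | rfl
      · exact hout _ (by simp)
      · exact h14
      · exact hout _ (by simp)
      · exact hout _ (by simp)
    rw [← pairing_actw w r s, hfix]

include Z in
/-- The root values of a torus element normalised by the twisted reflection are determined by one of
them, which is a root of unity of order dividing `(q ^ 3 - 1)(q + 1)`. -/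
theorem values {d : Fin MT.tab.l → Lˣ}
    (h : ∀ s, chi MT d ((MT.S).refl 1 (fd.O.rho s)) = chi MT d s ^ q) :
    chi MT d 18 ^ ordT q = 1 ∧ chi MT d 14 = chi MT d 18 ^ ((q : ℤ) ^ 3 - 1) ∧
      chi MT d 13 = chi MT d 18 ^ (-(q : ℤ) ^ 3 + q + 1) ∧ chi MT d 12 = chi MT d 18 ^ ((q : ℤ) ^ 2) := by
  have f : (MT.S).refl 1 (fd.O.rho 18) = 16 ∧ (MT.S).refl 1 (fd.O.rho 13) = 15 ∧
      (MT.S).refl 1 (fd.O.rho 12) = 19 ∧ (MT.S).refl 1 (fd.O.rho 14) = 9 := by decide +kernel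
  have v : (fd.O.vec 16 0 = 0 ∧ fd.O.vec 16 1 = 1 ∧ fd.O.vec 16 2 = 1 ∧ fd.O.vec 16 3 = 0) ∧
      (fd.O.vec 15 0 = 0 ∧ fd.O.vec 15 1 = 1 ∧ fd.O.vec 15 2 = 0 ∧ fd.O.vec 15 3 = 1) ∧
      (fd.O.vec 19 0 = 1 ∧ fd.O.vec 19 1 = 1 ∧ fd.O.vec 19 2 = 0 ∧ fd.O.vec 19 3 = 0) ∧
      (fd.O.vec 9 0 = 0 ∧ fd.O.vec 9 1 = -1 ∧ fd.O.vec 9 2 = 0 ∧ fd.O.vec 9 3 = 0) := by decide +kernel
  have a := h 18
  have b := h 13
  have c := h 12
  have e := h 14
  rw [f.1, chi_all Z d 16] at a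
  rw [f.2.1, chi_all Z d 15] at b
  rw [f.2.2.1, chi_all Z d 19] at c
  rw [f.2.2.2, chi_all Z d 9] at e
  obtain ⟨⟨u0, u1, u2, u3⟩, ⟨w0, w1, w2, w3⟩, ⟨x0, x1, x2, x3⟩, ⟨y0, y1, y2, y3⟩⟩ := v
  rw [u0, u1, u2, u3] at a
  rw [w0, w1, w2, w3] at b
  rw [x0, x1, x2, x3] at c
  rw [y0, y1, y2, y3] at e
  simp only [zpow_zero, zpow_one, zpow_neg_one, one_mul, mul_one] at a b c e
  generalize chi MT d 18 = b1 at a b c e ⊢
  generalize chi MT d 14 = b2 at a b c e ⊢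
  generalize chi MT d 13 = b3 at a b c e ⊢
  generalize chi MT d 12 = b4 at a b c e ⊢
  rw [← zpow_natCast] at a b c e
  have h2 : b2 ^ (q : ℤ) = b2⁻¹ := e.symm
  have h3 : b3 = b1 ^ (q : ℤ) * b2⁻¹ := by rw [← a]; simp [mul_comm b2 b3]
  have h4 : b4 = b1 ^ ((q : ℤ) ^ 2) := by
    have h5 : b4 = b3 ^ (q : ℤ) * b2⁻¹ := by rw [← b]; simp [mul_comm b2 b4]
    rw [h5, h3, mul_zpow, inv_zpow, h2, inv_inv, ← zpow_mul, ← pow_two, mul_inv_cancel_right]
  have h1 : b1 * b2 = b1 ^ ((q : ℤ) ^ 3) := by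
    rw [c, h4, ← zpow_mul, ← pow_succ]
  have hb2 : b2 = b1 ^ ((q : ℤ) ^ 3 - 1) := by
    rw [zpow_sub, ← h1, zpow_one, mul_comm b1 b2, mul_inv_cancel_right]
  refine ⟨?_, hb2, ?_, h4⟩
  · rw [ordT, zpow_mul, ← hb2, zpow_add, zpow_one, h2, inv_mul_cancel]
  · rw [h3, hb2, ← zpow_neg, ← zpow_add]
    congr 1
    ring

/-- The element of the torus in `SL₂`-coordinates. -/
noncomputable def telt (δ τ : L) (c : Fin MT.tab.l → Lˣ) : ↥(chevD4.group L) :=
  (MT.rel (KL L)).x 14 (-δ) * (MT.rel (KL L)).x 9 δ⁻¹ * (MT.rel (KL L)).x 14 ((τ - 1) * δ) *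
    tor MT (KL L) c

set_option maxHeartbeats 1600000 in
include Z in
theorem core (hq : 2 ≤ q) (hadd : ∀ a b : L, (a + b) ^ q = a ^ q + b ^ q) (ω : Lˣ)
    (hω : (orderOf ω : ℤ) = ordT q) :
    ∃ (h : ℤ) (δ τ : L), (ω ^ h) ^ (q ^ 3) = ω ^ h ∧ δ ^ q = δ ∧ τ ^ q = τ ∧
      (∀ k : ℕ, telt δ τ (cpow ω ![h, 0, q * h, (q : ℤ) ^ 2 * h]) ^ k = 1 → orderOf ω ∣ k) ∧
      Nat.card {g : ↥(chevD4.group L) // Z.σ g = g ∧
        g * telt δ τ (cpow ω ![h, 0, q * h, (q : ℤ) ^ 2 * h]) =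
          telt δ τ (cpow ω ![h, 0, q * h, (q : ℤ) ^ 2 * h]) * g} ≤ orderOf ω := by
  classical
  obtain ⟨h, hd1, hd2, hd3⟩ := exists_h hq
  have hq0 : q ≠ 0 := by omega
  set A : ℤ := (q : ℤ) * ((q : ℤ) ^ 2 + q + 1) with hA
  set μu : Lˣ := ω ^ (-((q : ℤ) * A)) with hμu
  set νu : Lˣ := ω ^ (-A) with hνu
  have hμq : μu ^ q = νu := by
    rw [hμu, hνu, ← zpow_natCast, ← zpow_mul]
    exact zpow_congr hω ⟨-(q : ℤ), by rw [hA, ordT]; ring⟩
  have hνq : νu ^ q = μu := by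
    rw [hμu, hνu, ← zpow_natCast, ← zpow_mul]
    congr 1
    ring
  have hne : μu ≠ νu := by
    intro he
    have h1 : ordT q ∣ -((q : ℤ) * A) - -A := dvd_of_zpow hω he
    obtain ⟨k, hk⟩ := h1
    have hk' : ((q : ℤ) ^ 3 - 1) * (-(q : ℤ)) = ((q : ℤ) ^ 3 - 1) * (((q : ℤ) + 1) * k) := by
      rw [ordT, hA] at hk; linear_combination hk
    have h8 : (1 : ℤ) < (q : ℤ) ^ 3 := one_lt_pow₀ (by exact_mod_cast hq) (by norm_num)
    have h9 := mul_left_cancel₀ (show ((q : ℤ) ^ 3 - 1) ≠ 0 by omega) hk'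
    have h10 : ((q : ℤ) + 1) ∣ 1 := ⟨1 + k, by linear_combination h9⟩
    have := Int.le_of_dvd one_pos h10
    omega
  set μ : L := (μu : L) with hμdef
  set μ' : L := (νu : L) with hμ'def
  have eμ : μ ^ q = μ' := by rw [hμdef, ← Units.val_pow_eq_pow_val, hμq]
  have eμ' : μ' ^ q = μ := by rw [hμ'def, ← Units.val_pow_eq_pow_val, hνq]
  set ν : L := μ' - μ with hν
  have hν0 : ν ≠ 0 := sub_ne_zero.2 fun e => hne (Units.ext e.symm)
  have hμ0 : μ ≠ 0 := Units.ne_zero _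
  have hμ'0 : μ' ≠ 0 := Units.ne_zero _
  set δ : L := μ * μ' with hδ
  set τ : L := μ + μ' with hτ
  set c := cpow ω ![h, 0, (q : ℤ) * h, (q : ℤ) ^ 2 * h] with hc
  have hδc : (chi MT c 14 : L) = δ := by
    rw [hδ, hμdef, hμ'def, ← Units.val_mul]
    congr 1
    obtain ⟨-, v14, -, -⟩ := chi_val (F := L) c
    rw [v14, hμu, hνu]
    show (ω ^ h) ^ (-1 : ℤ) * (ω ^ (0 : ℤ)) ^ (2 : ℤ) * (ω ^ ((q : ℤ) * h)) ^ (-1 : ℤ) *
      (ω ^ ((q : ℤ) ^ 2 * h)) ^ (-1 : ℤ) = _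
    simp only [← zpow_mul, ← zpow_add]
    refine zpow_congr hω ?_
    obtain ⟨k, hk⟩ := hd3
    exact ⟨-k, by rw [hA] at hk ⊢; linear_combination -hk⟩
  refine ⟨h, δ, τ, ?_, by rw [hδ, mul_pow, eμ, eμ', mul_comm],
    by rw [hτ, hadd, eμ, eμ', add_comm], ?_⟩
  · rw [← zpow_natCast, ← zpow_mul]
    refine zpow_congr hω ?_
    obtain ⟨k, hk⟩ := hd2
    exact ⟨k, by push_cast; linear_combination hk⟩
  set c' := cpow ω ![h, A, (q : ℤ) * h, (q : ℤ) ^ 2 * h] with hc'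
  have hs : ∀ s, chi MT c' s = ω ^ evq q (eR s) := by
    intro s
    rw [chi_all Z]
    obtain ⟨v18, v14, v13, v12⟩ := chi_val (F := L) c'
    obtain ⟨k1, hk1⟩ := hd1
    obtain ⟨k3, hk3⟩ := hd3
    have e0 : chi MT c' 18 = ω ^ evq q (eS 0) := by
      rw [v18]
      show (ω ^ h) ^ (2 : ℤ) * (ω ^ A) ^ (-1 : ℤ) = _
      simp only [← zpow_mul, ← zpow_add]
      exact zpow_congr hω ⟨k1, by simp [evq, eS, hA]; linear_combination hk1⟩
    have e1 : chi MT c' 14 = ω ^ evq q (eS 1) := by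
      rw [v14]
      show (ω ^ h) ^ (-1 : ℤ) * (ω ^ A) ^ (2 : ℤ) * (ω ^ ((q : ℤ) * h)) ^ (-1 : ℤ) *
        (ω ^ ((q : ℤ) ^ 2 * h)) ^ (-1 : ℤ) = _
      simp only [← zpow_mul, ← zpow_add]
      exact zpow_congr hω ⟨-k3 - 1, by simp [evq, eS, hA, ordT] at hk3 ⊢; linear_combination -hk3⟩
    have e2 : chi MT c' 13 = ω ^ evq q (eS 2) := by
      rw [v13]
      show (ω ^ A) ^ (-1 : ℤ) * (ω ^ ((q : ℤ) * h)) ^ (2 : ℤ) = _
      simp only [← zpow_mul, ← zpow_add]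
      exact zpow_congr hω ⟨(q : ℤ) * k1 + 1, by simp [evq, eS, hA, ordT] at hk1 ⊢; linear_combination (q : ℤ) * hk1⟩
    have e3 : chi MT c' 12 = ω ^ evq q (eS 3) := by
      rw [v12]
      show (ω ^ A) ^ (-1 : ℤ) * (ω ^ ((q : ℤ) ^ 2 * h)) ^ (2 : ℤ) = _
      simp only [← zpow_mul, ← zpow_add]
      exact zpow_congr hω ⟨(q : ℤ) ^ 2 * k1 + q, by simp [evq, eS, hA, ordT] at hk1 ⊢; linear_combination (q : ℤ) ^ 2 * hk1⟩
    rw [e0, e1, e2, e3]
    simp only [← zpow_mul, ← zpow_add]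
    refine congrArg (ω ^ ·) ?_
    have key : ∀ v : Fin 4 → ℤ, evq q (fun k => ∑ j : Fin 4, v j * eS j k) =
        evq q (eS 0) * v 0 + evq q (eS 1) * v 1 + evq q (eS 2) * v 2 + evq q (eS 3) * v 3 := by
      intro v; simp only [evq, Fin.sum_univ_four]; ring
    exact (key (fd.O.vec s)).symm
  obtain ⟨φ, hU, hL⟩ := exists_sl L
  let P : Matrix.SpecialLinearGroup (Fin 2) L := ⟨!![1 / ν, μ / ν; 1, μ'], by
    rw [Matrix.det_fin_two]; simp; field_simp; rw [hν]⟩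
  have hδ0 : δ ≠ 0 := mul_ne_zero hμ0 hμ'0
  let M : Matrix.SpecialLinearGroup (Fin 2) L := slU (-δ) * slL δ⁻¹ * slU ((τ - 1) * δ)
  let S : Matrix.SpecialLinearGroup (Fin 2) L :=
    ⟨!![1 / ν, δ * (μ / ν); δ⁻¹ * 1, μ'], by
      rw [Matrix.det_fin_two]; simp; field_simp; rw [hν]⟩
  set t := telt δ τ c with ht
  have hPM : P * M = ph slU slL (μ'⁻¹) * S := by
    refine Subtype.ext ?_
    simp only [M, Matrix.SpecialLinearGroup.coe_mul, ChevCore.ph_sl (inv_ne_zero hμ'0),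
      ChevCore.coe_slU, ChevCore.coe_slL]
    ext i j
    fin_cases i <;> fin_cases j <;>
      simp [P, S, Matrix.mul_apply, Matrix.vecMul, dotProduct, Fin.sum_univ_two] <;>
      (try field_simp) <;> (try simp only [hδ, hτ]) <;> (try field_simp) <;> (try ring)
  have hconj : φ P * t * (φ P)⁻¹ = tor MT (KL L) c' := by
    have h1 : tor MT (KL L) c * φ P * (tor MT (KL L) c)⁻¹ = φ S := by
      refine tor_sl Z hU hL c P S ?_
      rw [hδc]
      rfl
    have h2 : t = φ M * tor MT (KL L) c := by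
      simp only [ht, telt, M, map_mul, hU, hL]
    have h3 : (MT.rel (KL L)).hr 14 μ'⁻¹ =
        tor MT (KL L) fun j => (νu⁻¹) ^ (chevD4.coroot.getD (14 : Fin MT.tab.n).val #[]).getD j.val 0 := by
      have := Z.hr_eq_tor torOk 14 νu⁻¹
      rwa [Units.val_inv_eq_inv_val] at this
    have h4 : (fun j => (νu⁻¹) ^ (chevD4.coroot.getD (14 : Fin MT.tab.n).val #[]).getD j.val 0) * c = c' := by
      funext j
      have : ∀ j : Fin MT.tab.l, (chevD4.coroot.getD (14 : Fin MT.tab.n).val #[]).getD j.val 0 =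
          ([0, 1, 0, 0] : List ℤ).getD j.val 0 := by decide +kernel
      rw [Pi.mul_apply, this]
      match j with
      | 0 => simp [show MT.tab.l = 4 from rfl, hc, hc', cpow]
      | 1 => simp [show MT.tab.l = 4 from rfl, hc, hc', cpow, hνu]
      | 2 => simp [show MT.tab.l = 4 from rfl, hc, hc', cpow]
      | 3 => simp [show MT.tab.l = 4 from rfl, hc, hc', cpow]
    rw [h2, ← mul_assoc (φ P), ← map_mul, hPM, map_mul, sl_hr hU hL, ← h1, h3]
    rw [← h4, Z.tor_mul]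
    group
  refine ⟨fun k hk => ?_, ?_⟩
  · have h1 : tor MT (KL L) (c' ^ k) = 1 := by
      rw [← Z.torHom_apply, map_pow, Z.torHom_apply, ← hconj, conj_pow, hk, mul_one, mul_inv_cancel]
    have h2 := Z.chi_one_of_tor_eq_one h1 18
    have h3 : chi MT (c' ^ k) 18 = chi MT c' 18 ^ k := by
      simp only [chi, ← Finset.prod_pow, Pi.pow_apply]
      refine Finset.prod_congr rfl fun i _ => ?_
      rw [← zpow_natCast, ← zpow_natCast, ← zpow_mul, ← zpow_mul, mul_comm]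
    have h4 : evq q (eR 18) = 1 := by
      have : eR 18 = ![1, 0, 0, 0] := by funext j; revert j; decide +kernel
      rw [this]; simp [evq]
    rw [h3, hs, h4, zpow_one] at h2
    exact orderOf_dvd_of_pow_eq_one h2
  have hPq : Z.σ (φ P) = (MT.rel (KL L)).nr 14 (-ν⁻¹) * φ P := by
    let P' : Matrix.SpecialLinearGroup (Fin 2) L := pn slU slL (-ν⁻¹) * P
    rw [← sl_nr hU hL, ← map_mul]
    refine σ_sl Z hU hL P P' ?_
    intro i j
    have hνneg : ν ^ q = -ν := by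
      have h1 := hadd ν μ
      rw [show ν + μ = μ' by rw [hν]; ring, eμ, eμ'] at h1
      rw [hν]; rw [hν] at h1; linear_combination -h1
    simp only [P', Matrix.SpecialLinearGroup.coe_mul, ChevCore.pn_sl (neg_ne_zero.2 (inv_ne_zero hν0))]
    fin_cases i <;> fin_cases j <;>
      simp [P, Matrix.mul_apply, Matrix.vecMul, dotProduct, Fin.sum_univ_two, div_pow, hνneg, eμ, eμ'] <;>
      field_simp
  have hkey : ∀ g : ↥(chevD4.group L), Z.σ g = g → g * t = t * g →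
      ∃ d, tor MT (KL L) d = φ P * g * (φ P)⁻¹ ∧ chi MT d 18 ^ ordT q = 1 ∧
        chi MT d 14 = chi MT d 18 ^ ((q : ℤ) ^ 3 - 1) ∧
        chi MT d 13 = chi MT d 18 ^ (-(q : ℤ) ^ 3 + q + 1) ∧ chi MT d 12 = chi MT d 18 ^ ((q : ℤ) ^ 2) := by
    intro g hg hgt
    obtain ⟨d, hd⟩ := mem_torus Z hq hω hs (g := φ P * g * (φ P)⁻¹) (by
      rw [← hconj]
      calc φ P * g * (φ P)⁻¹ * (φ P * t * (φ P)⁻¹) = φ P * (g * t) * (φ P)⁻¹ := by group
        _ = φ P * (t * g) * (φ P)⁻¹ := by rw [hgt]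
        _ = _ := by group)
    refine ⟨d, hd, values Z fun s => ?_⟩
    have hn : (MT.rel (KL L)).nr 14 (-ν⁻¹) = (MT.rel (KL L)).hr 14 (-ν⁻¹) * (MT.rel (KL L)).n 1 := by
      rw [RootRel.n, simple_list.2.1, ← RootRel.nr_eq]
    have hnw : (MT.rel (KL L)).nw [1] = (MT.rel (KL L)).n 1 := by
      rw [(MT.rel (KL L)).nw_cons]; simp [RootRel.nw]
    obtain ⟨e, he⟩ : ∃ e, tor MT (KL L) e =
        (MT.rel (KL L)).n 1 * tor MT (KL L) d * ((MT.rel (KL L)).n 1)⁻¹ := by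
      refine Z.exists_tor torOk ?_
      rw [← hnw]
      exact nw_conj_mem_H _ _ (Z.tor_mem_H d)
    obtain ⟨a, ha⟩ := Z.exists_tor torOk ((MT.rel (KL L)).hr_mem_H (r := 14) (c := -ν⁻¹)
      (neg_ne_zero.2 (inv_ne_zero hν0)))
    have hσd : Z.σ (tor MT (KL L) d) = tor MT (KL L) e := by
      have h1 : Z.σ (tor MT (KL L) d) = (MT.rel (KL L)).nr 14 (-ν⁻¹) * tor MT (KL L) d *
          ((MT.rel (KL L)).nr 14 (-ν⁻¹))⁻¹ := by
        rw [hd, map_mul, map_mul, map_inv, hPq, hg]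
        group
      rw [h1, hn, show (MT.rel (KL L)).hr 14 (-ν⁻¹) * (MT.rel (KL L)).n 1 * tor MT (KL L) d *
        ((MT.rel (KL L)).hr 14 (-ν⁻¹) * (MT.rel (KL L)).n 1)⁻¹ = (MT.rel (KL L)).hr 14 (-ν⁻¹) *
          ((MT.rel (KL L)).n 1 * tor MT (KL L) d * ((MT.rel (KL L)).n 1)⁻¹) *
            ((MT.rel (KL L)).hr 14 (-ν⁻¹))⁻¹ by group, ← he, ← ha, ← Z.tor_mul, mul_comm a,
        Z.tor_mul, mul_inv_cancel_right]
    rw [← chi_σ Z hσd s]
    have := chi_n Z he.symm ((MT.S).refl 1 (fd.O.rho s))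
    rw [(MT.S).refl_refl] at this
    exact this.symm
  choose dd hdd using hkey
  have hpos : 0 < orderOf ω := orderOf_pos ω
  let f : {g : ↥(chevD4.group L) // Z.σ g = g ∧ g * t = t * g} → rootsOfUnity (orderOf ω) L :=
    fun g => ⟨chi MT (dd g.1 g.2.1 g.2.2) 18, by
      rw [mem_rootsOfUnity, ← zpow_natCast, hω]
      exact (hdd g.1 g.2.1 g.2.2).2.1⟩
  have hf : Function.Injective f := by
    intro g g' e
    have e18 : chi MT (dd g.1 g.2.1 g.2.2) 18 = chi MT (dd g'.1 g'.2.1 g'.2.2) 18 :=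
      congrArg Subtype.val e
    obtain ⟨a0, -, a2, a3, a4⟩ := hdd g.1 g.2.1 g.2.2
    obtain ⟨b0, -, b2, b3, b4⟩ := hdd g'.1 g'.2.1 g'.2.2
    refine Subtype.ext ?_
    have heq : φ P * g.1 * (φ P)⁻¹ = φ P * g'.1 * (φ P)⁻¹ := by
      rw [← a0, ← b0]
      refine Z.tor_ext fun s => ?_
      rw [chi_all Z, chi_all Z (dd g'.1 g'.2.1 g'.2.2) s, a2, a3, a4, b2, b3, b4, e18]
    exact mul_left_cancel (mul_right_cancel heq)
  haveI : NeZero (orderOf ω) := ⟨hpos.ne'⟩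
  refine (Nat.card_le_card_of_injective f hf).trans ?_
  simpa [Nat.card_eq_fintype_card] using card_rootsOfUnity L (orderOf ω)

end Cfsg.Agent.D4Triality.Torus
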